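import Cfsg.Agent.H11.L34.TorMain

/-!
# S5917, type (D): from the toral kill to the nilpotency of `φ 1` (helper11)

* `maxGen_add` : adding a commuting nilpotent operator does not change the generalised eigenspaces;
* `three_cross` : an operator with three blocks of dimension `64` on which it is scalar, zero on a complement, the sum of
  the three scalars zero, all generalised eigenspaces (nonzero eigenvalue) of dimension divisible by three, is zero.
-/

set_option autoImplicit false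

namespace Cfsg.Agent.H11.L34

open Module Module.End

section
variable {K L : Type*} [Field K] [AddCommGroup L] [Module K L]

theorem maxGen_le {k z : End K L} (hkz : Commute k z) (hk : IsNilpotent k) (c : K) :
    z.maxGenEigenspace c ≤ (k + z).maxGenEigenspace c := by
  intro x hx
  have h0 : x ∈ k.maxGenEigenspace 0 := by
    obtain ⟨m, hm⟩ := hk
    rw [mem_maxGenEigenspace]
    exact ⟨m, by rw [zero_smul, sub_zero, hm, LinearMap.zero_apply]⟩
  have h := genEigenspace_inf_le_add k z 0 c ⊤ ⊤ hkz ⟨h0, hx⟩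
  rw [zero_add, top_add] at h
  exact h

/-- adding a commuting nilpotent operator -/
theorem maxGen_add {k z : End K L} (hkz : Commute k z) (hk : IsNilpotent k) (c : K) :
    (k + z).maxGenEigenspace c = z.maxGenEigenspace c := by
  apply le_antisymm
  · have h := maxGen_le (k := -k) (z := k + z) ((Commute.refl k).add_right hkz).neg_left hk.neg c
    rw [neg_add_cancel_left] at h
    exact h
  · exact maxGen_le hkz hk c

theorem eig_le {T : End K L} {c : K} {W : Submodule K L} (h : ∀ x ∈ W, T x = c • x) : W ≤ T.maxGenEigenspace c := by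
  intro x hx
  rw [mem_maxGenEigenspace]
  refine ⟨1, ?_⟩
  rw [pow_one, LinearMap.sub_apply, h x hx, LinearMap.smul_apply, Module.End.one_apply, sub_self]

/-- the dimension of a generalised eigenspace from a decomposition into blocks -/
theorem finrank_gen {T : End K L} {c : K} {A B : Submodule K L} (hA : A ≤ T.maxGenEigenspace c)
    (hB : B ≤ ⨆ d ≠ c, T.maxGenEigenspace d) (hAB : A ⊔ B = ⊤) :
    T.maxGenEigenspace c = A := by
  have hd : Disjoint (T.maxGenEigenspace c) B := by
    have h1 := (T.independent_maxGenEigenspace) c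
    exact h1.mono_right hB
  apply le_antisymm _ hA
  intro x hx
  have hx' : x ∈ A ⊔ B := by rw [hAB]; exact Submodule.mem_top
  obtain ⟨a, ha, b, hb, rfl⟩ := Submodule.mem_sup.1 hx'
  have hb' : b ∈ T.maxGenEigenspace c := by
    have := (T.maxGenEigenspace c).sub_mem hx (hA ha)
    rwa [add_sub_cancel_left] at this
  have : b = 0 := by
    have := hd.le_bot ⟨hb', hb⟩
    exact this
  rw [this, add_zero]
  exact ha

variable [FiniteDimensional K L]

theorem finrank_gen' {T : End K L} {c : K} {A B : Submodule K L} (hA : A ≤ T.maxGenEigenspace c)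
    (hB : B ≤ ⨆ d ≠ c, T.maxGenEigenspace d) (hAB : A ⊔ B = ⊤) {a b : ℕ} (ha : finrank K A ≤ a) (hb : finrank K B ≤ b)
    (hL : finrank K L = a + b) : finrank K (T.maxGenEigenspace c) = a := by
  rw [finrank_gen hA hB hAB]
  have h1 : finrank K (A ⊔ B : Submodule K L) = a + b := by rw [hAB, finrank_top, hL]
  have h2 := Submodule.finrank_add_le_finrank_add_finrank A B
  omega

/-- **blocks**: three blocks `W X` of dimension 64, a complement `M` of dimension 56 -/
structure Blk (T : End K L) (W0 W1 W2 M : Submodule K L) (c0 c1 c2 : K) : Prop where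
  w0 : ∀ x ∈ W0, T x = c0 • x
  w1 : ∀ x ∈ W1, T x = c1 • x
  w2 : ∀ x ∈ W2, T x = c2 • x
  m : ∀ x ∈ M, T x = 0
  sup : W0 ⊔ W1 ⊔ W2 ⊔ M = ⊤
  d0 : finrank K W0 ≤ 64
  d1 : finrank K W1 ≤ 64
  d2 : finrank K W2 ≤ 64
  dm : finrank K M ≤ 56
  dl : finrank K L = 248

variable {T : End K L} {W0 W1 W2 M : Submodule K L} {c0 c1 c2 : K}

theorem Blk.swap (h : Blk T W0 W1 W2 M c0 c1 c2) : Blk T W1 W0 W2 M c1 c0 c2 :=
  ⟨h.w1, h.w0, h.w2, h.m, by rw [← h.sup]; ac_rfl, h.d1, h.d0, h.d2, h.dm, h.dl⟩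

theorem Blk.swap' (h : Blk T W0 W1 W2 M c0 c1 c2) : Blk T W0 W2 W1 M c0 c2 c1 :=
  ⟨h.w0, h.w2, h.w1, h.m, by rw [← h.sup]; ac_rfl, h.d0, h.d2, h.d1, h.dm, h.dl⟩

theorem le_ne {c d : K} (h : d ≠ c) {W : Submodule K L} (hW : W ≤ T.maxGenEigenspace d) :
    W ≤ ⨆ d ≠ c, T.maxGenEigenspace d := hW.trans (le_iSup₂_of_le d h le_rfl)

theorem fr_le (A B : Submodule K L) : finrank K (A ⊔ B : Submodule K L) ≤ finrank K A + finrank K B :=
  Submodule.finrank_add_le_finrank_add_finrank A B

theorem Blk.mle (h : Blk T W0 W1 W2 M c0 c1 c2) : M ≤ T.maxGenEigenspace 0 :=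
  eig_le fun x hx => by rw [h.m x hx, zero_smul]

theorem Blk.one (h : Blk T W0 W1 W2 M c0 c1 c2) (h0 : c0 ≠ 0) (h1 : c1 ≠ c0) (h2 : c2 ≠ c0) :
    finrank K (T.maxGenEigenspace c0) = 64 := by
  refine finrank_gen' (A := W0) (B := W1 ⊔ W2 ⊔ M) (b := 184) (eig_le h.w0) ?_ (by rw [← h.sup]; ac_rfl) h.d0 ?_
    (by rw [h.dl])
  · exact sup_le (sup_le (le_ne h1 (eig_le h.w1)) (le_ne h2 (eig_le h.w2))) (le_ne h0.symm h.mle)
  · have e1 := fr_le (W1 ⊔ W2) M
    have e2 := fr_le W1 W2
    have := h.d1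
    have := h.d2
    have := h.dm
    omega

theorem Blk.two (h : Blk T W0 W1 W2 M c0 c1 c2) (h0 : c0 ≠ 0) (h1 : c1 = c0) (h2 : c2 ≠ c0) :
    finrank K (T.maxGenEigenspace c0) = 128 := by
  refine finrank_gen' (A := W0 ⊔ W1) (B := W2 ⊔ M) (b := 120) ?_ ?_ (by rw [← h.sup]; ac_rfl) ?_ ?_ (by rw [h.dl])
  · exact sup_le (eig_le h.w0) (eig_le (by rw [← h1]; exact h.w1))
  · exact sup_le (le_ne h2 (eig_le h.w2)) (le_ne h0.symm h.mle)
  · have e1 := fr_le W0 W1
    have := h.d0
    have := h.d1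
    omega
  · have e1 := fr_le W2 M
    have := h.d2
    have := h.dm
    omega

theorem Blk.zero (h : Blk T W0 W1 W2 M c0 c1 c2) (k2 : (2 : K) = 0) (hs : c0 + c1 + c2 = 0)
    (h3 : ∀ c ≠ 0, 3 ∣ finrank K (T.maxGenEigenspace c)) : c0 = 0 := by
  by_contra h0
  have h4 := h3 c0 h0
  by_cases h1 : c1 = c0
  · by_cases h2 : c2 = c0
    · apply h0
      rw [h1, h2] at hs
      linear_combination hs - c0 * k2
    · rw [h.two h0 h1 h2] at h4
      omega
  · by_cases h2 : c2 = c0
    · rw [h.swap'.two h0 h2 h1] at h4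
      omega
    · rw [h.one h0 h1 h2] at h4
      omega

/-- **the conclusion**: `T = 0` -/
theorem Blk.eq_zero (h : Blk T W0 W1 W2 M c0 c1 c2) (k2 : (2 : K) = 0) (hs : c0 + c1 + c2 = 0)
    (h3 : ∀ c ≠ 0, 3 ∣ finrank K (T.maxGenEigenspace c)) : T = 0 := by
  have e0 := h.zero k2 hs h3
  have e1 := h.swap.zero k2 (by rw [← hs]; ring) h3
  have e2 := h.swap'.swap.zero k2 (by rw [← hs]; ring) h3
  have hk : (⊤ : Submodule K L) ≤ LinearMap.ker T := by
    rw [← h.sup]
    refine sup_le (sup_le (sup_le ?_ ?_) ?_) ?_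
    · intro x hx
      rw [LinearMap.mem_ker, h.w0 x hx, e0, zero_smul]
    · intro x hx
      rw [LinearMap.mem_ker, h.w1 x hx, e1, zero_smul]
    · intro x hx
      rw [LinearMap.mem_ker, h.w2 x hx, e2, zero_smul]
    · intro x hx
      exact h.m x hx
  exact LinearMap.ext fun x => hk Submodule.mem_top

end

end Cfsg.Agent.H11.L34
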