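import Cfsg.Agent.H11.L34.Toral
import Cfsg.Agent.H204.L34.Rank
import Cfsg.Agent.SporadicA.FieldFour

/-!
# S5917, type (D): the toral kill (helper11)

`toral_kill` : if the hermitian matrices act by commuting operators on a space of dimension `< 280`, compatibly with
an action of `SL₃(4)`, then the dimension of each generalised eigenspace of the identity matrix with a nonzero
eigenvalue is divisible by three.
-/

set_option autoImplicit false

namespace Cfsg.Agent.H11.L34

open Matrix Module Module.End Cfsg.Agent.H691.L34 Cfsg.Agent.H204.L34 Cfsg.Agent.SporadicA.FieldFour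

section
variable {F : Type} [Field F]

theorem it_it (g : G3 F) : it (it g) = g := by
  apply Subtype.ext
  show ((it g)⁻¹ : G3 F).1.transpose = g.1
  rw [← map_inv]
  show (((g⁻¹)⁻¹ : G3 F).1.transpose).transpose = g.1
  rw [inv_inv, Matrix.transpose_transpose]

theorem tw_tw (b : Bool) (g : G3 F) : tw b (tw b g) = g := by
  cases b
  · rfl
  · exact it_it g

theorem adj_apply (g : G3 F) (i j : Fin 3) : (g⁻¹ : G3 F).1 i j = (g.1).adjugate i j := rfl

/-- the monomial 3-group -/
def P3 (F : Type) [Field F] : Subgroup (G3 F) where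
  carrier := {g | ∃ k : Fin 3, ∀ i j, j ≠ i + k → g.1 i j = 0}
  one_mem' := ⟨0, fun i j h => Matrix.one_apply_ne (fun e => h (by rw [add_zero]; exact e.symm))⟩
  mul_mem' := by
    rintro a b ⟨k, hk⟩ ⟨l, hl⟩
    refine ⟨k + l, fun i j hij => ?_⟩
    show (a.1 * b.1) i j = 0
    rw [Matrix.mul_apply]
    refine Finset.sum_eq_zero fun m _ => ?_
    by_cases h : m = i + k
    · rw [hl m j (fun e => hij (by rw [e, h, add_assoc])), mul_zero]
    · rw [hk i m h, zero_mul]
  inv_mem' := by
    rintro g ⟨k, hk⟩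
    refine ⟨-k, fun i j hij => ?_⟩
    rw [adj_apply]
    fin_cases k
    · have h01 := hk 0 1 (by decide)
      have h02 := hk 0 2 (by decide)
      have h10 := hk 1 0 (by decide)
      have h12 := hk 1 2 (by decide)
      have h20 := hk 2 0 (by decide)
      have h21 := hk 2 1 (by decide)
      fin_cases i <;> fin_cases j <;> simp [Matrix.adjugate_fin_three, h01, h02, h10, h12, h20, h21] at hij ⊢
    · have h01 := hk 0 0 (by decide)
      have h02 := hk 0 2 (by decide)
      have h10 := hk 1 0 (by decide)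
      have h12 := hk 1 1 (by decide)
      have h20 := hk 2 1 (by decide)
      have h21 := hk 2 2 (by decide)
      fin_cases i <;> fin_cases j <;> simp [Matrix.adjugate_fin_three, h01, h02, h10, h12, h20, h21] at hij ⊢ <;>
        exact absurd rfl hij
    · have h01 := hk 0 0 (by decide)
      have h02 := hk 0 1 (by decide)
      have h10 := hk 1 1 (by decide)
      have h12 := hk 1 2 (by decide)
      have h20 := hk 2 0 (by decide)
      have h21 := hk 2 2 (by decide)
      fin_cases i <;> fin_cases j <;> simp [Matrix.adjugate_fin_three, h01, h02, h10, h12, h20, h21] at hij ⊢ <;>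
        exact absurd rfl hij

theorem tw_P3 (b : Bool) {g : G3 F} (hg : g ∈ P3 F) : tw b g ∈ P3 F := by
  cases b
  · exact hg
  · obtain ⟨k, hk⟩ := (P3 F).inv_mem hg
    refine ⟨-k, fun i j hij => ?_⟩
    show (g⁻¹ : G3 F).1 j i = 0
    exact hk j i (fun e => hij (by rw [e]; abel))

theorem cube [Fintype F] (hF : Fintype.card F = 4) {a : F} (ha : a ≠ 0) : a ^ 3 = 1 := by
  have := FiniteField.pow_card_sub_one_eq_one a ha
  rwa [hF] at this

theorem pow_four [Fintype F] (hF : Fintype.card F = 4) (a : F) : a ^ 4 = a := by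
  rw [← hF]; exact FiniteField.pow_card a

theorem two_zero [Fintype F] (hF : Fintype.card F = 4) : (2 : F) = 0 := by
  have h := Nat.cast_card_eq_zero F
  rw [hF] at h
  have h' : (2 : F) * 2 = 0 := by
    rw [← h]; norm_num
  exact mul_self_eq_zero.1 h'

theorem det_eq (g : G3 F) : g.1 0 0 * g.1 1 1 * g.1 2 2 - g.1 0 0 * g.1 1 2 * g.1 2 1 - g.1 0 1 * g.1 1 0 * g.1 2 2 +
    g.1 0 1 * g.1 1 2 * g.1 2 0 + g.1 0 2 * g.1 1 0 * g.1 2 1 - g.1 0 2 * g.1 1 1 * g.1 2 0 = 1 := by
  have := g.2
  rw [Matrix.det_fin_three] at this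
  exact this

theorem P3_cube [Fintype F] (hF : Fintype.card F = 4) {g : G3 F} (hg : g ∈ P3 F) : g ^ 3 = 1 := by
  obtain ⟨k, hk⟩ := hg
  have hd := det_eq g
  have key : ∀ i j, (g.1 * g.1 * g.1) i j = (1 : M3 F) i j := by
    intro i j
    rw [Matrix.mul_apply, Fin.sum_univ_three]
    simp only [Matrix.mul_apply, Fin.sum_univ_three]
    fin_cases k
    · have h01 := hk 0 1 (by decide)
      have h02 := hk 0 2 (by decide)
      have h10 := hk 1 0 (by decide)
      have h12 := hk 1 2 (by decide)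
      have h20 := hk 2 0 (by decide)
      have h21 := hk 2 1 (by decide)
      simp only [h01, h02, h10, h12, h20, h21, mul_zero, zero_mul, sub_zero, add_zero] at hd
      have n0 : g.1 0 0 ≠ 0 := fun h => by simp [h] at hd
      have n1 : g.1 1 1 ≠ 0 := fun h => by simp [h] at hd
      have n2 : g.1 2 2 ≠ 0 := fun h => by simp [h] at hd
      have c0 := cube hF n0
      have c1 := cube hF n1
      have c2 := cube hF n2
      fin_cases i <;> fin_cases j <;> simp [h01, h02, h10, h12, h20, h21]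
      · linear_combination c0
      · linear_combination c1
      · linear_combination c2
    · have h01 := hk 0 0 (by decide)
      have h02 := hk 0 2 (by decide)
      have h10 := hk 1 0 (by decide)
      have h12 := hk 1 1 (by decide)
      have h20 := hk 2 1 (by decide)
      have h21 := hk 2 2 (by decide)
      simp only [h01, h02, h10, h12, h20, h21, mul_zero, zero_mul, sub_zero, add_zero, zero_add] at hd
      fin_cases i <;> fin_cases j <;> simp [h01, h02, h10, h12, h20, h21]
      · linear_combination hd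
      · linear_combination hd
      · linear_combination hd
    · have h01 := hk 0 0 (by decide)
      have h02 := hk 0 1 (by decide)
      have h10 := hk 1 1 (by decide)
      have h12 := hk 1 2 (by decide)
      have h20 := hk 2 0 (by decide)
      have h21 := hk 2 2 (by decide)
      simp only [h01, h02, h10, h12, h20, h21, mul_zero, zero_mul, sub_zero, add_zero, zero_add] at hd
      fin_cases i <;> fin_cases j <;> simp [h01, h02, h10, h12, h20, h21]
      · linear_combination hd
      · linear_combination hd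
      · linear_combination hd
  apply Subtype.ext
  show (g ^ 3 : G3 F).1 = 1
  rw [pow_succ, pow_two]
  show g.1 * g.1 * g.1 = 1
  ext i j
  exact key i j

theorem P3_unit [Fintype F] (hF : Fintype.card F = 4) {g : G3 F} (hg : g ∈ P3 F) : hact g 1 = 1 := by
  obtain ⟨k, hk⟩ := hg
  have hd := det_eq g
  have h2 := two_zero hF
  ext i j
  rw [Cfsg.Agent.H204.L34.hact_apply]
  fin_cases k
  · have h01 := hk 0 1 (by decide)
    have h02 := hk 0 2 (by decide)
    have h10 := hk 1 0 (by decide)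
    have h12 := hk 1 2 (by decide)
    have h20 := hk 2 0 (by decide)
    have h21 := hk 2 1 (by decide)
    simp only [h01, h02, h10, h12, h20, h21, mul_zero, zero_mul, sub_zero, add_zero] at hd
    have n0 : g.1 0 0 ≠ 0 := fun h => by simp [h] at hd
    have n1 : g.1 1 1 ≠ 0 := fun h => by simp [h] at hd
    have n2 : g.1 2 2 ≠ 0 := fun h => by simp [h] at hd
    have c0 := cube hF n0
    have c1 := cube hF n1
    have c2 := cube hF n2
    fin_cases i <;> fin_cases j <;> simp [h01, h02, h10, h12, h20, h21]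
    · linear_combination c0
    · linear_combination c1
    · linear_combination c2
  · have h01 := hk 0 0 (by decide)
    have h02 := hk 0 2 (by decide)
    have h10 := hk 1 0 (by decide)
    have h12 := hk 1 1 (by decide)
    have h20 := hk 2 1 (by decide)
    have h21 := hk 2 2 (by decide)
    simp only [h01, h02, h10, h12, h20, h21, mul_zero, zero_mul, sub_zero, add_zero, zero_add] at hd
    have n0 : g.1 0 1 ≠ 0 := fun h => by simp [h] at hd
    have n1 : g.1 1 2 ≠ 0 := fun h => by simp [h] at hd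
    have n2 : g.1 2 0 ≠ 0 := fun h => by simp [h] at hd
    have c0 := cube hF n0
    have c1 := cube hF n1
    have c2 := cube hF n2
    fin_cases i <;> fin_cases j <;> simp [h01, h02, h10, h12, h20, h21]
    · linear_combination c0
    · linear_combination c1
    · linear_combination c2
  · have h01 := hk 0 0 (by decide)
    have h02 := hk 0 1 (by decide)
    have h10 := hk 1 1 (by decide)
    have h12 := hk 1 2 (by decide)
    have h20 := hk 2 0 (by decide)
    have h21 := hk 2 2 (by decide)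
    simp only [h01, h02, h10, h12, h20, h21, mul_zero, zero_mul, sub_zero, add_zero, zero_add] at hd
    have n0 : g.1 0 2 ≠ 0 := fun h => by simp [h] at hd
    have n1 : g.1 1 0 ≠ 0 := fun h => by simp [h] at hd
    have n2 : g.1 2 1 ≠ 0 := fun h => by simp [h] at hd
    have c0 := cube hF n0
    have c1 := cube hF n1
    have c2 := cube hF n2
    fin_cases i <;> fin_cases j <;> simp [h01, h02, h10, h12, h20, h21]
    · linear_combination c0
    · linear_combination c1
    · linear_combination c2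

/-- the hermitian matrix with the given entries -/
def hmx (a b c x y z : F) : M3 F := !![a, x, y; x ^ 2, b, z; y ^ 2, z ^ 2, c]

theorem HF_iff {X : M3 F} : HF X ↔ ∀ i j, (X j i) ^ 2 = X i j :=
  ⟨fun h i j => HF_apply h i j, fun h => by
    ext i j
    exact h i j⟩

theorem HF_hmx [Fintype F] (hF : Fintype.card F = 4) {a b c x y z : F} (ha : a ^ 2 = a) (hb : b ^ 2 = b)
    (hc : c ^ 2 = c) : HF (hmx a b c x y z) := by
  rw [HF_iff]
  have h4 : ∀ t : F, (t ^ 2) ^ 2 = t := fun t => by rw [← pow_mul]; exact pow_four hF t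
  intro i j
  fin_cases i <;> fin_cases j <;> simp [hmx, ha, hb, hc, h4]

theorem hmx_eq {X : M3 F} (h : HF X) : X = hmx (X 0 0) (X 1 1) (X 2 2) (X 0 1) (X 0 2) (X 1 2) := by
  rw [HF_iff] at h
  ext i j
  fin_cases i <;> fin_cases j <;> simp [hmx, h]

theorem HF_add (h2 : (2 : F) = 0) {X Y : M3 F} (hX : HF X) (hY : HF Y) : HF (X + Y) := by
  rw [HF_iff] at *
  intro i j
  show (X j i + Y j i) ^ 2 = X i j + Y i j
  linear_combination hX i j + hY i j + X j i * Y j i * h2

theorem HF_one : HF (1 : M3 F) := ct_one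

variable {K : Type} [Field K]

/-- `0` or `1` -/
noncomputable def bt (K : Type) [Field K] (a : F) : K := by classical exact if a = 0 then 0 else 1

theorem bt_zero : bt K (0 : F) = 0 := if_pos rfl

theorem bt_one : bt K (1 : F) = 1 := if_neg one_ne_zero

theorem idem {a : F} (h : a ^ 2 = a) : a = 0 ∨ a = 1 := by
  have : a * (a - 1) = 0 := by linear_combination h
  rcases mul_eq_zero.1 this with h | h
  · exact Or.inl h
  · exact Or.inr (sub_eq_zero.1 h)

theorem bt_add (h2 : (2 : F) = 0) (k2 : (2 : K) = 0) {a b : F} (ha : a ^ 2 = a) (hb : b ^ 2 = b) :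
    bt K (a + b) = bt K a + bt K b := by
  rcases idem ha with rfl | rfl <;> rcases idem hb with rfl | rfl
  · rw [zero_add, bt_zero, add_zero]
  · rw [zero_add, bt_zero, zero_add]
  · rw [add_zero, bt_zero, add_zero]
  · have e : (1 : F) + 1 = 0 := by rw [← h2]; norm_num
    have e' : (1 : K) + 1 = 0 := by rw [← k2]; norm_num
    rw [e, bt_zero, bt_one, e']

theorem bt_inj {a b : F} (ha : a ^ 2 = a) (hb : b ^ 2 = b) (h : bt K a = bt K b) : a = b := by
  rcases idem ha with rfl | rfl <;> rcases idem hb with rfl | rfl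
  · rfl
  · rw [bt_zero, bt_one] at h; exact absurd h.symm one_ne_zero
  · rw [bt_zero, bt_one] at h; exact absurd h one_ne_zero
  · rfl

theorem hact_diag {g : G3 F} {v : Fin 3 → F} (hg : g.1 = Matrix.diagonal v) (Y : M3 F) (i j : Fin 3) :
    hact g Y i j = v i * Y i j * (v j) ^ 2 := by
  rw [Cfsg.Agent.H204.L34.hact_apply, hg]
  fin_cases i <;> fin_cases j <;> simp [Matrix.diagonal]

theorem sum_diag (h2 : (2 : F) = 0) {w : F} (hw : w ^ 2 + w + 1 = 0) {g g' : G3 F}
    (hg : g.1 = Matrix.diagonal ![1, w, w ^ 2]) (hg' : g'.1 = Matrix.diagonal ![1, w ^ 2, w]) (Y : M3 F) :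
    Y + hact g Y + hact g' Y = Matrix.diagonal fun i => Y i i := by
  have hw3 : w ^ 3 = 1 := by linear_combination (w - 1) * hw
  ext i j
  show Y i j + hact g Y i j + hact g' Y i j = _
  rw [hact_diag hg, hact_diag hg']
  fin_cases i <;> fin_cases j <;> simp [Matrix.diagonal]
  · linear_combination Y 0 0 * h2
  · linear_combination Y 0 1 * hw + Y 0 1 * w * hw3
  · linear_combination Y 0 2 * hw + Y 0 2 * w * hw3
  · linear_combination Y 1 0 * hw
  · linear_combination Y 1 1 * (w ^ 3 + 2) * hw3 + Y 1 1 * h2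
  · linear_combination Y 1 2 * hw + Y 1 2 * (w ^ 2 + w) * hw3
  · linear_combination Y 2 0 * hw
  · linear_combination Y 2 1 * hw + Y 2 1 * (w + w ^ 2) * hw3
  · linear_combination Y 2 2 * (w ^ 3 + 2) * hw3 + Y 2 2 * h2

/-- the functionals fixed by the 3-group -/
theorem fixed_form [Fintype F] (hF : Fintype.card F = 4) (k2 : (2 : K) = 0) {w : F} (hw : w ^ 2 + w + 1 = 0)
    {χ : M3 F → K} (hadd : ∀ X Y, HF X → HF Y → χ (X + Y) = χ X + χ Y)
    (hfix : ∀ g ∈ P3 F, ∀ X, HF X → χ (hact g X) = χ X) {X : M3 F} (hX : HF X) :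
    χ X = χ 1 * bt K (X 0 0 + X 1 1 + X 2 2) := by
  have h2 := two_zero hF
  have h4 := pow_four hF
  have hw3 : w ^ 3 = 1 := by linear_combination (w - 1) * hw
  have hdd : ∀ t : K, t + t = 0 := fun t => by linear_combination t * k2
  have hX' := HF_iff.1 hX
  have h0 : HF (0 : M3 F) := by rw [HF_iff]; intro i j; simp
  have hχ0 : χ 0 = 0 := by
    have := hadd 0 0 h0 h0
    rw [add_zero] at this
    exact left_eq_add.1 this
  have hdg : ∀ v : Fin 3 → F, (∀ i, v i ^ 2 = v i) → HF (Matrix.diagonal v) := by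
    intro v hv
    rw [HF_iff]
    intro i j
    by_cases h : i = j
    · subst h; rw [Matrix.diagonal_apply_eq, hv]
    · rw [Matrix.diagonal_apply_ne _ h, Matrix.diagonal_apply_ne _ (fun e => h e.symm)]; simp
  -- the diagonal part
  have hD : (Matrix.diagonal ![1, w, w ^ 2] : M3 F).det = 1 := by
    rw [Matrix.det_diagonal, Fin.prod_univ_three]
    show 1 * w * w ^ 2 = 1
    linear_combination hw3
  have hD' : (Matrix.diagonal ![1, w ^ 2, w] : M3 F).det = 1 := by
    rw [Matrix.det_diagonal, Fin.prod_univ_three]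
    show 1 * w ^ 2 * w = 1
    linear_combination hw3
  obtain ⟨d, hd⟩ : ∃ d : G3 F, d.1 = Matrix.diagonal ![1, w, w ^ 2] := ⟨⟨_, hD⟩, rfl⟩
  obtain ⟨d', hd'⟩ : ∃ d : G3 F, d.1 = Matrix.diagonal ![1, w ^ 2, w] := ⟨⟨_, hD'⟩, rfl⟩
  have hmem : ∀ (g : G3 F) (v : Fin 3 → F) (h : g.1 = Matrix.diagonal v), g ∈ P3 F :=
    fun g v h => ⟨0, fun i j h' => by
      rw [h]
      exact Matrix.diagonal_apply_ne _ (fun e => h' (by rw [add_zero]; exact e.symm))⟩
  have hdiag : χ X = χ (Matrix.diagonal fun i => X i i) := by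
    have h5 := sum_diag h2 hw hd hd' X
    rw [← h5, hadd _ _ (HF_add h2 hX (hact_HF h2 h4 hX _)) (hact_HF h2 h4 hX _),
      hadd _ _ hX (hact_HF h2 h4 hX _), hfix _ (hmem _ _ hd) X hX, hfix _ (hmem _ _ hd') X hX, hdd, zero_add]
  -- the cyclic permutation
  have hP : (!![0, 1, 0; 0, 0, 1; 1, 0, 0] : M3 F).det = 1 := by rw [Matrix.det_fin_three]; simp
  obtain ⟨g, hg⟩ : ∃ d : G3 F, d.1 = !![0, 1, 0; 0, 0, 1; 1, 0, 0] := ⟨⟨_, hP⟩, rfl⟩
  have hPm : g ∈ P3 F := ⟨1, fun i j h => by
    rw [hg]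
    fin_cases i <;> fin_cases j <;> first | rfl | exact absurd rfl h⟩
  have hcyc : ∀ a b c : F, a ^ 2 = a → b ^ 2 = b → c ^ 2 = c →
      χ (Matrix.diagonal ![b, c, a]) = χ (Matrix.diagonal ![a, b, c]) := by
    intro a b c ha hb hc
    rw [← hfix _ hPm (Matrix.diagonal ![a, b, c]) (hdg _ (by intro i; fin_cases i <;> assumption))]
    congr 1
    ext i j
    rw [Cfsg.Agent.H204.L34.hact_apply, hg]
    fin_cases i <;> fin_cases j <;> simp [Matrix.diagonal]
  have z2 : (0 : F) ^ 2 = 0 := by simp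
  have o2 : (1 : F) ^ 2 = 1 := by simp
  have hsplit : ∀ a b c : F, a ^ 2 = a → b ^ 2 = b → c ^ 2 = c →
      χ (Matrix.diagonal ![a, b, c]) = χ (Matrix.diagonal ![a, 0, 0]) + χ (Matrix.diagonal ![0, b, 0]) +
        χ (Matrix.diagonal ![0, 0, c]) := by
    intro a b c ha hb hc
    have k1 : HF (Matrix.diagonal ![a, 0, 0]) := hdg _ (by intro i; fin_cases i <;> first | assumption | exact z2)
    have k2 : HF (Matrix.diagonal ![0, b, 0]) := hdg _ (by intro i; fin_cases i <;> first | assumption | exact z2)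
    have k3 : HF (Matrix.diagonal ![0, 0, c]) := hdg _ (by intro i; fin_cases i <;> first | assumption | exact z2)
    rw [← hadd _ _ k1 k2, ← hadd _ _ (HF_add h2 k1 k2) k3]
    congr 1
    ext i j
    fin_cases i <;> fin_cases j <;> simp [Matrix.diagonal]
  have t1 : χ (Matrix.diagonal ![0, 0, 1]) = χ (Matrix.diagonal ![1, 0, 0]) := hcyc 1 0 0 o2 z2 z2
  have t2 : χ (Matrix.diagonal ![0, 1, 0]) = χ (Matrix.diagonal ![0, 0, 1]) := hcyc 0 0 1 z2 z2 o2
  have hone : χ 1 = χ (Matrix.diagonal ![1, 0, 0]) := by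
    have h6 : (1 : M3 F) = Matrix.diagonal ![1, 1, 1] := by
      ext i j
      fin_cases i <;> fin_cases j <;> simp [Matrix.diagonal, Matrix.one_apply]
    rw [h6, hsplit 1 1 1 o2 o2 o2, t2, t1, hdd, zero_add]
  have e0 : ∀ a : F, a ^ 2 = a → χ (Matrix.diagonal ![a, 0, 0]) = χ 1 * bt K a := by
    intro a ha
    rcases idem ha with rfl | rfl
    · have : (Matrix.diagonal ![0, 0, 0] : M3 F) = 0 := by
        ext i j
        fin_cases i <;> fin_cases j <;> simp [Matrix.diagonal]
      rw [this, hχ0, bt_zero, mul_zero]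
    · rw [bt_one, mul_one, hone]
  have e1 : ∀ a : F, a ^ 2 = a → χ (Matrix.diagonal ![0, a, 0]) = χ 1 * bt K a := by
    intro a ha
    rw [← e0 a ha, ← hcyc 0 a 0 z2 ha z2]
  have e2 : ∀ a : F, a ^ 2 = a → χ (Matrix.diagonal ![0, 0, a]) = χ 1 * bt K a := by
    intro a ha
    rw [← e1 a ha, ← hcyc 0 0 a z2 z2 ha]
  have hv : (fun i => X i i) = ![X 0 0, X 1 1, X 2 2] := by
    funext i
    fin_cases i <;> rfl
  rw [hdiag, hv, hsplit _ _ _ (hX' 0 0) (hX' 1 1) (hX' 2 2), e0 _ (hX' 0 0), e1 _ (hX' 1 1), e2 _ (hX' 2 2),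
    bt_add h2 k2 (by linear_combination hX' 0 0 + hX' 1 1 + X 0 0 * X 1 1 * h2) (hX' 2 2), bt_add h2 k2 (hX' 0 0) (hX' 1 1)]
  ring

/-- the rational element of a bit -/
def bb : Bool → F4
  | false => .z
  | true => .o

/-- the determinant of a hermitian matrix -/
def dt (p : (Bool × Bool × Bool) × (F4 × F4 × F4)) : F4 :=
  F4.add (F4.add (F4.add (F4.mul (F4.mul (bb p.1.1) (bb p.1.2.1)) (bb p.1.2.2))
    (F4.mul (bb p.1.1) (F4.mul p.2.2.2 (F4.mul p.2.2.2 p.2.2.2))))
    (F4.add (F4.mul (bb p.1.2.2) (F4.mul p.2.1 (F4.mul p.2.1 p.2.1)))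
      (F4.mul (bb p.1.2.1) (F4.mul p.2.2.1 (F4.mul p.2.2.1 p.2.2.1)))))
    (F4.add (F4.mul (F4.mul p.2.1 p.2.2.2) (F4.mul p.2.2.1 p.2.2.1))
      (F4.mul (F4.mul p.2.2.1 (F4.mul p.2.1 p.2.1)) (F4.mul p.2.2.2 p.2.2.2)))

/-- the hermitian matrices of determinant 1 -/
abbrev TT : Type := {p : (Bool × Bool × Bool) × (F4 × F4 × F4) // dt p = F4.o}

theorem card_TT : Fintype.card TT = 280 := by decide +kernel

/-- the matrix -/
def HM (e : F4 ≃+* F) (p : (Bool × Bool × Bool) × (F4 × F4 × F4)) : M3 F :=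
  hmx (e (bb p.1.1)) (e (bb p.1.2.1)) (e (bb p.1.2.2)) (e p.2.1) (e p.2.2.1) (e p.2.2.2)

theorem bb_sq (e : F4 ≃+* F) (t : Bool) : (e (bb t)) ^ 2 = e (bb t) := by
  rw [← map_pow]
  congr 1
  cases t <;> rfl

theorem HF_HM [Fintype F] (hF : Fintype.card F = 4) (e : F4 ≃+* F) (p : (Bool × Bool × Bool) × (F4 × F4 × F4)) :
    HF (HM e p) := HF_hmx hF (bb_sq e _) (bb_sq e _) (bb_sq e _)

theorem det_HM (h2 : (2 : F) = 0) (e : F4 ≃+* F) (p : (Bool × Bool × Bool) × (F4 × F4 × F4)) :
    (HM e p).det = e (dt p) := by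
  have hm : ∀ a b : F4, e (F4.mul a b) = e a * e b := fun a b => map_mul e a b
  have ha : ∀ a b : F4, e (F4.add a b) = e a + e b := fun a b => map_add e a b
  simp only [dt, hm, ha]
  rw [Matrix.det_fin_three]
  simp only [HM, hmx, Matrix.of_apply, Matrix.cons_val', Matrix.cons_val_zero, Matrix.cons_val_one, Matrix.cons_val]
  linear_combination (-(e (bb p.1.1) * e p.2.2.2 ^ 3) - e (bb p.1.2.2) * e p.2.1 ^ 3 - e (bb p.1.2.1) * e p.2.2.1 ^ 3) * h2

theorem HM_inj (e : F4 ≃+* F) {p q : (Bool × Bool × Bool) × (F4 × F4 × F4)} (h : HM e p = HM e q) : p = q := by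
  have hb : ∀ s t : Bool, bb s = bb t → s = t := by decide
  obtain ⟨⟨a, b, c⟩, x, y, z⟩ := p
  obtain ⟨⟨a', b', c'⟩, x', y', z'⟩ := q
  have h00 : e (bb a) = e (bb a') := congrFun (congrFun h 0) 0
  have h11 : e (bb b) = e (bb b') := congrFun (congrFun h 1) 1
  have h22 : e (bb c) = e (bb c') := congrFun (congrFun h 2) 2
  have h01 : e x = e x' := congrFun (congrFun h 0) 1
  have h02 : e y = e y' := congrFun (congrFun h 0) 2
  have h12 : e z = e z' := congrFun (congrFun h 1) 2
  rw [hb _ _ (e.injective h00), hb _ _ (e.injective h11), hb _ _ (e.injective h22), e.injective h01, e.injective h02,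
    e.injective h12]

theorem det_ct (h2 : (2 : F) = 0) (X : M3 F) : (ct X).det = X.det ^ 2 := by
  have : CharP F 2 := CharTwo.of_one_ne_zero_of_two_eq_zero one_ne_zero h2
  unfold ct
  rw [Matrix.det_transpose]
  exact (RingHom.map_det (frobenius F 2) X).symm

theorem tr_hmx (a b c x y z a' b' c' x' y' z' : F) : (hmx a b c x y z * hmx a' b' c' x' y' z').trace =
    a * a' + b * b' + c * c' + x * x' ^ 2 + x ^ 2 * x' + y * y' ^ 2 + y ^ 2 * y' + z * z' ^ 2 + z ^ 2 * z' := by
  rw [Matrix.trace_fin_three]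
  simp only [hmx, Matrix.mul_apply, Fin.sum_univ_three, Matrix.of_apply, Matrix.cons_val', Matrix.cons_val_zero,
    Matrix.cons_val_one, Matrix.cons_val]
  ring

/-- hermitian matrices are determined by their traces against the hermitian matrices -/
theorem tr_inj [Fintype F] (hF : Fintype.card F = 4) {H H' : M3 F} (hH : HF H) (hH' : HF H')
    (h : ∀ X, HF X → (H * X).trace = (H' * X).trace) : H = H' := by
  have h2 := two_zero hF
  have h4 := pow_four hF
  have z2 : (0 : F) ^ 2 = 0 := by simp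
  have o2 : (1 : F) ^ 2 = 1 := by simp
  have key : ∀ x x' : F, (∀ t : F, x * t ^ 2 + x ^ 2 * t = x' * t ^ 2 + x' ^ 2 * t) → x = x' := by
    intro x x' ht
    by_contra hne
    have hd : (x + x') ^ 2 ≠ 0 := by
      intro h5
      have h6 : x + x' = 0 := pow_eq_zero_iff (two_ne_zero) |>.1 h5
      exact hne (by linear_combination h6 - x' * h2)
    obtain ⟨t, h5⟩ := exists_tr hF h2 _ hd
    apply h5
    have h6 := ht t
    have h7 : ((x + x') ^ 2) ^ 2 = x + x' := by rw [← pow_mul]; exact h4 _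
    rw [h7]
    linear_combination h6 + (x * x' * t + x' * t ^ 2 + x' ^ 2 * t) * h2
  rw [hmx_eq hH, hmx_eq hH'] at h
  have e00 := h _ (HF_hmx hF (x := 0) (y := 0) (z := 0) o2 z2 z2)
  have e11 := h _ (HF_hmx hF (x := 0) (y := 0) (z := 0) z2 o2 z2)
  have e22 := h _ (HF_hmx hF (x := 0) (y := 0) (z := 0) z2 z2 o2)
  have e01 := key (H 0 1) (H' 0 1) fun t => by
    have h5 := h _ (HF_hmx hF (x := t) (y := 0) (z := 0) z2 z2 z2)
    rw [tr_hmx, tr_hmx] at h5
    linear_combination h5
  have e02 := key (H 0 2) (H' 0 2) fun t => by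
    have h5 := h _ (HF_hmx hF (x := 0) (y := t) (z := 0) z2 z2 z2)
    rw [tr_hmx, tr_hmx] at h5
    linear_combination h5
  have e12 := key (H 1 2) (H' 1 2) fun t => by
    have h5 := h _ (HF_hmx hF (x := 0) (y := 0) (z := t) z2 z2 z2)
    rw [tr_hmx, tr_hmx] at h5
    linear_combination h5
  rw [tr_hmx, tr_hmx] at e00 e11 e22
  rw [hmx_eq hH, hmx_eq hH', e01, e02, e12, show H 0 0 = H' 0 0 by linear_combination e00,
    show H 1 1 = H' 1 1 by linear_combination e11, show H 2 2 = H' 2 2 by linear_combination e22]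

/-- the element `u` with `u* u = H` -/
theorem exists_u [Fintype F] (hF : Fintype.card F = 4) (e : F4 ≃+* F) (p : TT) :
    ∃ u : G3 F, ∀ X, (hact u X) 0 0 + (hact u X) 1 1 + (hact u X) 2 2 = (HM e p.1 * X).trace := by
  have h2 := two_zero hF
  have h4 := pow_four hF
  have hd : (HM e p.1).det = 1 := by rw [det_HM h2, p.2]; exact map_one e
  have hr : (1 : M3 F).rank = (HM e p.1).rank := by
    rw [Matrix.rank_one, Matrix.rank_of_isUnit _ ((Matrix.isUnit_iff_isUnit_det _).2 (by rw [hd]; exact isUnit_one))]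
  obtain ⟨k, hk⟩ := rank_equiv hF HF_one (HF_HM hF e p.1) hr
  refine ⟨⟨ct k.1, by rw [det_ct h2, k.2, one_pow]⟩, fun X => ?_⟩
  rw [← Matrix.trace_fin_three]
  show (ct k.1 * X * ct (ct k.1)).trace = _
  have hcc : ct (ct k.1) = k.1 := by
    ext i j
    show ((k.1 i j) ^ 2) ^ 2 = k.1 i j
    rw [← pow_mul]; exact h4 _
  rw [hcc, Matrix.trace_mul_cycle, ← hk]
  show _ = ((k.1 * 1 * ct k.1) * X).trace
  rw [Matrix.mul_one]

end

end Cfsg.Agent.H11.L34
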