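import Cfsg.Agent.H11.L34.TorK

/-!
# S5917, type (D): the toral kill, main theorem (helper11)

`toral_kill` : if the hermitian matrices act by commuting operators `A X` on a space of dimension `< 280` over an
algebraically closed field of characteristic 2, compatibly with an action of `SL₃(4)`, then the dimension of the
generalised eigenspace of `A 1` for a nonzero eigenvalue is divisible by three.
-/

set_option autoImplicit false

namespace Cfsg.Agent.H11.L34

open Matrix Module Module.End Cfsg.Agent.H691.L34 Cfsg.Agent.H204.L34 Cfsg.Agent.SporadicA.FieldFour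

section
variable {K M ι : Type*} [Field K] [AddCommGroup M] [Module K M]

/-- weights are additive -/
theorem Wt_add {f : ι → End K M} (hc : ∀ i j, Commute (f i) (f j)) {χ : ι → K} (hχ : Wt f χ ≠ ⊥) {i j k : ι}
    (hk : f k = f i + f j) : χ k = χ i + χ j := by
  by_contra hne
  obtain ⟨x, hx, hx0⟩ := (Submodule.ne_bot_iff _).1 hχ
  rw [mem_Wt] at hx
  have h4 : x ∈ (f i + f j).genEigenspace (χ i + χ j) (⊤ + ⊤) :=
    genEigenspace_inf_le_add _ _ _ _ _ _ (hc i j) ⟨hx i, hx j⟩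
  have h5 := hx k
  rw [hk] at h5
  have h6 := (disjoint_genEigenspace (f i + f j) hne ⊤ (⊤ + ⊤)).le_bot ⟨h5, h4⟩
  exact hx0 h6

theorem Wt_act {P : Type*} [Group P] (act : P → ι → ι) (h1 : ∀ i, act 1 i = i)
    (hm : ∀ g h i, act (g * h) i = act g (act h i)) (ρ : P → (M →ₗ[K] M)) (f : ι → End K M)
    (hρ : ∀ g i, ρ g ∘ₗ f i = f (act g i) ∘ₗ ρ g) (g : P) (χ : ι → K) (x : M) (hx : x ∈ Wt f χ) :
    ρ g x ∈ Wt f (fun i => χ (act g⁻¹ i)) := by
  rw [mem_Wt] at hx ⊢
  intro i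
  have h2 : act g (act g⁻¹ i) = i := by rw [← hm, mul_inv_cancel, h1]
  have h3 := maxGen_map (hρ g (act g⁻¹ i)) (hx (act g⁻¹ i))
  rwa [h2] at h3

end

section
variable {F : Type} [Field F]

/-- the hermitian matrices -/
abbrev HS (F : Type) [Field F] : Type := {X : M3 F // HF X}

/-- the action on the hermitian matrices -/
def hs (h2 : (2 : F) = 0) (h4 : ∀ x : F, x ^ 4 = x) (b : Bool) (g : G3 F) (X : HS F) : HS F :=
  ⟨hact (tw b g) X.1, hact_HF h2 h4 X.2 _⟩

theorem hs_one (h2 : (2 : F) = 0) (h4 : ∀ x : F, x ^ 4 = x) (b : Bool) (X : HS F) : hs h2 h4 b 1 X = X := by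
  apply Subtype.ext
  show hact (tw b 1) X.1 = X.1
  rw [map_one, hact_one]

theorem hs_mul (h2 : (2 : F) = 0) (h4 : ∀ x : F, x ^ 4 = x) (b : Bool) (g h : G3 F) (X : HS F) :
    hs h2 h4 b (g * h) X = hs h2 h4 b g (hs h2 h4 b h X) := by
  apply Subtype.ext
  show hact (tw b (g * h)) X.1 = hact (tw b g) (hact (tw b h) X.1)
  rw [map_mul, hact_mul h2]

variable [Fintype F] {K : Type} [Field K] {L : Type} [AddCommGroup L] [Module K L]

/-- the weight of the trace does not occur -/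
theorem orbit [FiniteDimensional K L] (hF : Fintype.card F = 4) (hL : finrank K L < 280)
    (ρ : G3 F → (L →ₗ[K] L)) (hρ1 : ρ 1 = LinearMap.id) (hρm : ∀ g h, ρ (g * h) = ρ g ∘ₗ ρ h) (b : Bool)
    (A : M3 F → End K L) (hcomm : ∀ X Y, HF X → HF Y → Commute (A X) (A Y))
    (heq : ∀ g X, HF X → ρ g ∘ₗ A X = A (hact (tw b g) X) ∘ₗ ρ g) {c : K} (hc : c ≠ 0)
    (hW : Wt (fun X : HS F => A X.1) (fun X => c * bt K (X.1 0 0 + X.1 1 1 + X.1 2 2)) ≠ ⊥) : False := by
  classical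
  have h2 := two_zero hF
  have h4 := pow_four hF
  let e : F4 ≃+* F := FiniteField.ringEquivOfCardEq (by rw [F4.card_eq, hF])
  let ψ : TT → HS F → K := fun p X => c * bt K ((HM e p.1 * X.1).trace)
  let f : HS F → End K L := fun X => A X.1
  have hcf : ∀ X Y, Commute (f X) (f Y) := fun X Y => hcomm _ _ X.2 Y.2
  have hne : ∀ p, Wt f (ψ p) ≠ ⊥ := by
    intro p
    obtain ⟨u, hu⟩ := exists_u hF e p
    obtain ⟨x, hx, hx0⟩ := (Submodule.ne_bot_iff _).1 hW
    have h5 := Wt_act (hs h2 h4 b) (hs_one h2 h4 b) (hs_mul h2 h4 b) ρ f (fun g X => heq g X.1 X.2) (tw b u)⁻¹ _ x hx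
    have h8 : ψ p = fun X => c * bt K ((hs h2 h4 b ((tw b u)⁻¹)⁻¹ X).1 0 0 + (hs h2 h4 b ((tw b u)⁻¹)⁻¹ X).1 1 1 +
        (hs h2 h4 b ((tw b u)⁻¹)⁻¹ X).1 2 2) := by
      funext X
      show c * bt K ((HM e p.1 * X.1).trace) = c * bt K (hact (tw b ((tw b u)⁻¹)⁻¹) X.1 0 0 +
        hact (tw b ((tw b u)⁻¹)⁻¹) X.1 1 1 + hact (tw b ((tw b u)⁻¹)⁻¹) X.1 2 2)
      rw [inv_inv, tw_tw, hu]
    refine (Submodule.ne_bot_iff _).2 ⟨ρ (tw b u)⁻¹ x, ?_, ?_⟩
    · rw [h8]
      exact h5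
    · intro h6
      apply hx0
      have h9 : ρ (tw b u) (ρ (tw b u)⁻¹ x) = x := by
        have := LinearMap.congr_fun (hρm (tw b u) (tw b u)⁻¹) x
        rw [mul_inv_cancel, hρ1] at this
        exact this.symm
      rw [← h9, h6, map_zero]
  have hid : ∀ (p : TT) (X : M3 F), HF X → ((HM e p.1 * X).trace) ^ 2 = (HM e p.1 * X).trace := by
    intro p X hX
    obtain ⟨u, hu⟩ := exists_u hF e p
    rw [← hu]
    have h5 := HF_iff.1 (hact_HF h2 h4 hX u)
    have a0 := h5 0 0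
    have a1 := h5 1 1
    have a2 := h5 2 2
    linear_combination a0 + a1 + a2 + (hact u X 0 0 * hact u X 1 1 + hact u X 0 0 * hact u X 2 2 +
      hact u X 1 1 * hact u X 2 2) * h2
  have hinj : Function.Injective ψ := by
    intro p q hpq
    apply Subtype.ext
    apply HM_inj e
    apply tr_inj hF (HF_HM hF e _) (HF_HM hF e _)
    intro X hX
    have h5 := congrFun hpq ⟨X, hX⟩
    have h6 := mul_left_cancel₀ hc h5
    exact bt_inj (hid p X hX) (hid q X hX) h6
  have hind : iSupIndep fun p : TT => Wt f (ψ p) := (Wt_indep f hcf).comp hinj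
  have h7 := hind.subtype_ne_bot_le_finrank
  have h10 : Fintype.card {p : TT // Wt f (ψ p) ≠ ⊥} = 280 := by
    rw [Fintype.card_of_subtype (Finset.univ : Finset TT) (fun p => by simp [hne p]), Finset.card_univ, card_TT]
  rw [h10] at h7
  omega

/-- the toral kill -/
theorem toral_kill [IsAlgClosed K] [FiniteDimensional K L] (hF : Fintype.card F = 4) (k2 : (2 : K) = 0)
    (hL : finrank K L < 280) (ρ : G3 F → (L →ₗ[K] L)) (hρ1 : ρ 1 = LinearMap.id)
    (hρm : ∀ g h, ρ (g * h) = ρ g ∘ₗ ρ h) (b : Bool) (A : M3 F → End K L)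
    (hadd : ∀ X Y, HF X → HF Y → A (X + Y) = A X + A Y) (hcomm : ∀ X Y, HF X → HF Y → Commute (A X) (A Y))
    (heq : ∀ g X, HF X → ρ g ∘ₗ A X = A (hact (tw b g) X) ∘ₗ ρ g) {c : K} (hc : c ≠ 0) :
    3 ∣ finrank K ((A 1).maxGenEigenspace c) := by
  classical
  have h2 := two_zero hF
  have h4 := pow_four hF
  let e : F4 ≃+* F := FiniteField.ringEquivOfCardEq (by rw [F4.card_eq, hF])
  obtain ⟨w, hw⟩ : ∃ w : F, w ^ 2 + w + 1 = 0 := by
    refine ⟨e F4.w, ?_⟩
    have h5 : e (F4.w ^ 2 + F4.w + 1) = e 0 := by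
      congr 1
    rw [map_add, map_add, map_pow, map_one, map_zero] at h5
    exact h5
  have hAM : ∀ X : HS F, ∀ x ∈ (A 1).maxGenEigenspace c, A X.1 x ∈ (A 1).maxGenEigenspace c := fun X =>
    mapsTo_maxGenEigenspace_of_comm (hcomm 1 X.1 HF_one X.2) c
  have hρM : ∀ g : P3 F, ∀ x ∈ (A 1).maxGenEigenspace c, ρ g.1 x ∈ (A 1).maxGenEigenspace c := by
    intro g x hx
    have h5 := heq g.1 1 HF_one
    rw [P3_unit hF (tw_P3 b g.2)] at h5
    exact maxGen_map h5 hx
  let f : HS F → End K ((A 1).maxGenEigenspace c) := fun X => (A X.1).restrict (hAM X)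
  let σ : P3 F → ((A 1).maxGenEigenspace c →ₗ[K] (A 1).maxGenEigenspace c) := fun g => (ρ g.1).restrict (hρM g)
  have hp : IsPGroup 3 (P3 F) := fun g => ⟨1, by rw [pow_one]; exact Subtype.ext (P3_cube hF g.2)⟩
  have : Fact (Nat.Prime 3) := ⟨Nat.prime_three⟩
  have hcf : ∀ X Y, Commute (f X) (f Y) := by
    intro X Y
    apply LinearMap.ext
    intro x
    apply Subtype.ext
    exact LinearMap.congr_fun (hcomm _ _ X.2 Y.2) x.1
  refine dvd_finrank hp (fun g X => hs h2 h4 b g.1 X) (hs_one h2 h4 b) (fun g h => hs_mul h2 h4 b g.1 h.1) σ ?_ ?_ f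
    hcf ?_ ?_
  · apply LinearMap.ext
    intro x
    apply Subtype.ext
    exact LinearMap.congr_fun hρ1 x.1
  · intro g h
    apply LinearMap.ext
    intro x
    apply Subtype.ext
    exact LinearMap.congr_fun (hρm g.1 h.1) x.1
  · intro g X
    apply LinearMap.ext
    intro x
    apply Subtype.ext
    exact LinearMap.congr_fun (heq g.1 X.1 X.2) x.1
  · intro χ hχ
    by_contra hne
    have hsub : ∀ (X : HS F) (x : (A 1).maxGenEigenspace c), x ∈ (f X).maxGenEigenspace (χ X) →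
        (x : L) ∈ (A X.1).maxGenEigenspace (χ X) := by
      intro X x hx
      have h5 : ((A 1).maxGenEigenspace c).subtype ∘ₗ f X = A X.1 ∘ₗ ((A 1).maxGenEigenspace c).subtype := by
        apply LinearMap.ext
        intro y
        rfl
      exact maxGen_map h5 hx
    obtain ⟨x, hx, hx0⟩ := (Submodule.ne_bot_iff _).1 hne
    have hx' := mem_Wt.1 hx
    have hx0' : (x : L) ≠ 0 := fun h => hx0 (Subtype.ext h)
    have hone : χ ⟨1, HF_one⟩ = c := by
      by_contra h5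
      have h6 := hsub ⟨1, HF_one⟩ x (hx' _)
      exact hx0' ((disjoint_genEigenspace (A 1) h5 ⊤ ⊤).le_bot ⟨h6, x.2⟩)
    let χ' : M3 F → K := fun X => if h : HF X then χ ⟨X, h⟩ else 0
    have hχ' : ∀ X (h : HF X), χ' X = χ ⟨X, h⟩ := fun X h => dif_pos h
    have hform : ∀ X : HS F, χ X = c * bt K (X.1 0 0 + X.1 1 1 + X.1 2 2) := by
      intro X
      have h5 := fixed_form hF k2 hw (χ := χ') ?_ ?_ X.2
      · rw [hχ' _ X.2, hχ' _ HF_one, hone] at h5
        exact h5
      · intro Y Z hY hZ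
        rw [hχ' _ hY, hχ' _ hZ, hχ' _ (HF_add h2 hY hZ)]
        apply Wt_add hcf hne
        apply LinearMap.ext
        intro y
        apply Subtype.ext
        exact LinearMap.congr_fun (hadd Y Z hY hZ) y.1
      · intro g hg Y hY
        rw [hχ' _ hY, hχ' _ (hact_HF h2 h4 hY _)]
        have h6 := hχ ⟨tw b g, tw_P3 b hg⟩ ⟨Y, hY⟩
        rw [← h6]
        congr 1
        apply Subtype.ext
        show hact g Y = hact (tw b (tw b g)) Y
        rw [tw_tw]
    apply orbit hF hL ρ hρ1 hρm b A hcomm heq hc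
    refine (Submodule.ne_bot_iff _).2 ⟨x, ?_, hx0'⟩
    rw [mem_Wt]
    intro X
    rw [← hform]
    exact hsub X x (hx' X)

end

end Cfsg.Agent.H11.L34
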