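import Mathlib

/-!
# S5917, type (D): joint weights of commuting operators permuted by a `p`-group (helper11)

* `dvd_finrank` : commuting operators `f i` on a finite dimensional space, permuted by a finite `p`-group without a
  fixed joint weight: `p` divides the dimension.
-/

set_option autoImplicit false

namespace Cfsg.Agent.H11.L34

open Module Module.End

section

variable {K M ι : Type*} [Field K] [AddCommGroup M] [Module K M]

/-- the joint generalised eigenspace -/
def Wt (f : ι → End K M) (χ : ι → K) : Submodule K M := ⨅ i, (f i).maxGenEigenspace (χ i)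

theorem mem_Wt {f : ι → End K M} {χ : ι → K} {x : M} : x ∈ Wt f χ ↔ ∀ i, x ∈ (f i).maxGenEigenspace (χ i) := by
  unfold Wt
  exact Submodule.mem_iInf _

theorem Wt_indep (f : ι → End K M) (hc : ∀ i j, Commute (f i) (f j)) : iSupIndep (Wt f) :=
  independent_iInf_maxGenEigenspace_of_forall_mapsTo f fun i j χ => mapsTo_maxGenEigenspace_of_comm (hc j i) χ

theorem Wt_top [IsAlgClosed K] [FiniteDimensional K M] (f : ι → End K M) (hc : ∀ i j, Commute (f i) (f j)) :
    ⨆ χ, Wt f χ = ⊤ :=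
  iSup_iInf_maxGenEigenspace_eq_top_of_forall_mapsTo f
    (fun i j χ => mapsTo_maxGenEigenspace_of_comm (hc j i) χ) fun i => iSup_maxGenEigenspace_eq_top (f i)

/-- intertwining operators carry generalised eigenvectors to generalised eigenvectors -/
theorem maxGen_map {M' : Type*} [AddCommGroup M'] [Module K M'] {u : End K M} {v : End K M'} {r : M →ₗ[K] M'}
    (h : r ∘ₗ u = v ∘ₗ r) {c : K} {x : M}
    (hx : x ∈ u.maxGenEigenspace c) : r x ∈ v.maxGenEigenspace c := by
  rw [mem_maxGenEigenspace] at hx ⊢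
  obtain ⟨k, hk⟩ := hx
  refine ⟨k, ?_⟩
  have h1 : ∀ y, r ((u - c • (1 : End K M)) y) = (v - c • (1 : End K M')) (r y) := fun y => by
    have h2 := LinearMap.congr_fun h y
    simp only [LinearMap.comp_apply] at h2
    simp only [LinearMap.sub_apply, LinearMap.smul_apply, End.one_apply, map_sub, map_smul, h2]
  have h2 : ∀ (k : ℕ) y, r (((u - c • (1 : End K M)) ^ k) y) = ((v - c • (1 : End K M')) ^ k) (r y) := by
    intro k
    induction k with
    | zero => intro y; simp
    | succ k ih => intro y; rw [pow_succ, pow_succ, End.mul_apply, End.mul_apply, ih, h1]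
  rw [← h2, hk, map_zero]

theorem dvd_finrank [IsAlgClosed K] [FiniteDimensional K M] {P : Type*} [Group P] [Finite P] {p : ℕ} [Fact p.Prime]
    (hP : IsPGroup p P) (act : P → ι → ι) (h1 : ∀ i, act 1 i = i) (hm : ∀ g h i, act (g * h) i = act g (act h i))
    (ρ : P → (M →ₗ[K] M)) (hρ1 : ρ 1 = LinearMap.id) (hρm : ∀ g h, ρ (g * h) = ρ g ∘ₗ ρ h) (f : ι → End K M)
    (hc : ∀ i j, Commute (f i) (f j)) (hρ : ∀ g i, ρ g ∘ₗ f i = f (act g i) ∘ₗ ρ g)
    (hno : ∀ χ : ι → K, (∀ g i, χ (act g i) = χ i) → Wt f χ = ⊥) : p ∣ finrank K M := by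
  classical
  -- the action on the weights
  have hW : ∀ (g : P) (χ : ι → K) (x : M), x ∈ Wt f χ → ρ g x ∈ Wt f (fun i => χ (act g⁻¹ i)) := by
    intro g χ x hx
    rw [mem_Wt] at hx ⊢
    intro i
    have h2 : act g (act g⁻¹ i) = i := by rw [← hm, mul_inv_cancel, h1]
    have h3 := maxGen_map (hρ g (act g⁻¹ i)) (hx (act g⁻¹ i))
    rwa [h2] at h3
  have hinv : ∀ (g : P) (x : M), ρ g⁻¹ (ρ g x) = x := by
    intro g x
    have := LinearMap.congr_fun (hρm g⁻¹ g) x
    rw [inv_mul_cancel, hρ1] at this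
    exact this.symm
  have hinv' : ∀ (g : P) (x : M), ρ g (ρ g⁻¹ x) = x := by
    intro g x
    have := hinv g⁻¹ x
    rwa [inv_inv] at this
  have hback : ∀ (g : P) (χ : ι → K), (fun i => (fun j => χ (act g⁻¹ j)) (act g i)) = χ := by
    intro g χ
    funext i
    show χ (act g⁻¹ (act g i)) = χ i
    rw [← hm, inv_mul_cancel, h1]
  have hmap : ∀ (g : P) (χ : ι → K), (Wt f χ).map (ρ g) = Wt f (fun i => χ (act g⁻¹ i)) := by
    intro g χ
    apply le_antisymm
    · rintro _ ⟨x, hx, rfl⟩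
      exact hW g χ x hx
    · intro y hy
      refine ⟨ρ g⁻¹ y, ?_, hinv' g y⟩
      have h3 := hW g⁻¹ _ y hy
      rw [inv_inv, hback] at h3
      exact h3
  have hfin : ∀ (g : P) (χ : ι → K), finrank K (Wt f (fun i => χ (act g⁻¹ i))) = finrank K (Wt f χ) := by
    intro g χ
    rw [← hmap]
    exact (Submodule.equivMapOfInjective (ρ g) (Function.LeftInverse.injective (hinv g)) (Wt f χ)).finrank_eq.symm
  -- the weights
  let Λ : Type _ := {χ : ι → K // Wt f χ ≠ ⊥}
  have hind : iSupIndep fun χ : Λ => Wt f χ.1 := (Wt_indep f hc).comp Subtype.val_injective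
  have : Finite Λ := by
    have h4 := WellFoundedGT.finite_of_iSupIndep hind (fun χ => χ.2)
    exact h4
  have : Fintype Λ := Fintype.ofFinite _
  have htop : ⨆ χ : Λ, Wt f χ.1 = ⊤ := by
    rw [eq_top_iff, ← Wt_top f hc]
    refine iSup_le fun χ => ?_
    by_cases h5 : Wt f χ = ⊥
    · rw [h5]; exact bot_le
    · exact le_iSup (fun χ : Λ => Wt f χ.1) ⟨χ, h5⟩
  have hint : DirectSum.IsInternal fun χ : Λ => Wt f χ.1 := DirectSum.isInternal_submodule_of_iSupIndep_of_iSup_eq_top hind htop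
  have hsum : finrank K M = ∑ χ : Λ, finrank K (Wt f χ.1) := by
    have e := LinearEquiv.ofBijective (DirectSum.coeLinearMap fun χ : Λ => Wt f χ.1) hint
    rw [← e.finrank_eq]
    exact finrank_directSum _ _
  -- the action
  let N := finrank K M
  have hN : ∀ χ : Λ, finrank K (Wt f χ.1) ≤ N := fun χ => Submodule.finrank_le _
  let T : Type _ := {x : Λ × Fin N // (x.2 : ℕ) < finrank K (Wt f x.1.1)}
  have hgL : ∀ (g : P) (χ : Λ), Wt f (fun i => χ.1 (act g⁻¹ i)) ≠ ⊥ := by
    intro g χ h5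
    apply χ.2
    rw [← hmap] at h5
    rw [eq_bot_iff]
    intro x hx
    have h6 : ρ g x ∈ (Wt f χ.1).map (ρ g) := Submodule.mem_map_of_mem hx
    rw [h5, Submodule.mem_bot] at h6
    rw [Submodule.mem_bot, ← hinv g x, h6, map_zero]
  let sm : P → Λ → Λ := fun g χ => ⟨fun i => χ.1 (act g⁻¹ i), hgL g χ⟩
  have sm1 : ∀ χ, sm 1 χ = χ := by
    intro χ
    apply Subtype.ext
    funext i
    show χ.1 (act 1⁻¹ i) = χ.1 i
    rw [inv_one, h1]
  have smm : ∀ g h χ, sm (g * h) χ = sm g (sm h χ) := by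
    intro g h χ
    apply Subtype.ext
    funext i
    show χ.1 (act (g * h)⁻¹ i) = χ.1 (act h⁻¹ (act g⁻¹ i))
    rw [mul_inv_rev, hm]
  have hfin' : ∀ (g : P) (χ : Λ), finrank K (Wt f (sm g χ).1) = finrank K (Wt f χ.1) := fun g χ => hfin g χ.1
  let inst : MulAction P T :=
    { smul := fun g x => ⟨(sm g x.1.1, x.1.2), by rw [hfin']; exact x.2⟩
      one_smul := fun x => Subtype.ext (Prod.ext (sm1 x.1.1) rfl)
      mul_smul := fun g h x => Subtype.ext (Prod.ext (smm g h x.1.1) rfl) }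
  have hcard : Nat.card T = finrank K M := by
    let e : T ≃ Σ χ : Λ, Fin (finrank K (Wt f χ.1)) :=
      { toFun := fun x => ⟨x.1.1, ⟨x.1.2, x.2⟩⟩
        invFun := fun s => ⟨(s.1, ⟨s.2, lt_of_lt_of_le s.2.2 (hN s.1)⟩), s.2.2⟩
        left_inv := fun x => rfl
        right_inv := fun s => rfl }
    rw [Nat.card_congr e, Nat.card_sigma, hsum]
    refine Finset.sum_congr rfl fun χ _ => ?_
    rw [Nat.card_eq_fintype_card, Fintype.card_fin]
  have hfix : Nat.card (MulAction.fixedPoints P T) = 0 := by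
    rw [Nat.card_eq_zero]
    left
    constructor
    rintro ⟨x, hx⟩
    have h6 : Wt f x.1.1.1 = ⊥ := by
      apply hno
      intro g i
      have h7 : sm g⁻¹ x.1.1 = x.1.1 := congrArg (fun y : T => y.1.1) (hx g⁻¹)
      have h8 := congrFun (congrArg Subtype.val h7) i
      show x.1.1.1 (act g i) = x.1.1.1 i
      rw [← h8]
      show _ = x.1.1.1 (act g⁻¹⁻¹ i)
      rw [inv_inv]
    exact x.1.1.2 h6
  have hmod := hP.card_modEq_card_fixedPoints T
  rw [hcard, hfix] at hmod
  exact (Nat.modEq_zero_iff_dvd).1 hmod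

end

end Cfsg.Agent.H11.L34
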